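import Mathlib

/-!
Facts on alternating groups used for the recognition of a group from an involution centralizer
`2 × Alt(m)`.
-/

set_option autoImplicit false

namespace CfsgLib.TwoTimesAlt

open Equiv
open scoped commutatorElement

set_option maxHeartbeats 1000000 in
/-- For `m ≥ 6` every involution of `Alt(m)` is a product of commutators of elements centralizing it. -/
theorem mem_commutator_centralizer {G : Type*} [Group G] {m : ℕ} (hm : 6 ≤ m)
    (f : alternatingGroup (Fin m) →* G) (d : alternatingGroup (Fin m)) (hd : d * d = 1) :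
    f d ∈ ⁅Subgroup.centralizer ({f d} : Set G), Subgroup.centralizer ({f d} : Set G)⁆ := by
  classical
  set H := ⁅Subgroup.centralizer ({f d} : Set G), Subgroup.centralizer ({f d} : Set G)⁆ with hH
  have hdd : ∀ y, (d : Perm (Fin m)) ((d : Perm (Fin m)) y) = y := fun y => by
    rw [← Perm.mul_apply, ← Subgroup.coe_mul, hd, Subgroup.coe_one, Perm.one_apply]
  have hmem : ∀ s : alternatingGroup (Fin m), Commute s d →
      f s ∈ Subgroup.centralizer ({f d} : Set G) := fun s hs =>
    Subgroup.mem_centralizer_singleton_iff.2 (hs.map f).eq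
  suffices key : ∀ (n : ℕ) (x : alternatingGroup (Fin m)),
      (∀ y, (x : Perm (Fin m)) y = y ∨ (x : Perm (Fin m)) y = (d : Perm (Fin m)) y) →
      (x : Perm (Fin m)).support.card ≤ n → f x ∈ H from
    key _ d (fun y => Or.inr rfl) le_rfl
  intro n
  induction n with
  | zero =>
    intro x _ hc
    have : x = 1 := Subtype.ext (Perm.support_eq_empty_iff.1 (Finset.card_eq_zero.1 (Nat.le_zero.1 hc)))
    rw [this, map_one]
    exact one_mem _
  | succ n ih =>
    intro x hx hc
    by_cases h1 : x = 1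
    · rw [h1, map_one]; exact one_mem _
    obtain ⟨a, ha⟩ : ∃ a, (x : Perm (Fin m)) a ≠ a := by
      by_contra h
      exact h1 (Subtype.ext (Equiv.ext fun y => by simpa using not_exists.1 h y))
    have hxa : (x : Perm (Fin m)) a = (d : Perm (Fin m)) a := (hx a).resolve_left ha
    have hback : ∀ u, (x : Perm (Fin m)) u ≠ u → (x : Perm (Fin m)) ((d : Perm (Fin m)) u) = u := by
      intro u hu
      rcases hx ((d : Perm (Fin m)) u) with h | h
      · exfalso
        have e := (hx u).resolve_left hu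
        exact hu ((x : Perm (Fin m)).injective (by rw [e, h]))
      · rw [h, hdd]
    obtain ⟨b, hb⟩ : ∃ b, b = (d : Perm (Fin m)) a := ⟨_, rfl⟩
    have hdb : (d : Perm (Fin m)) b = a := by rw [hb, hdd]
    have hxb : (x : Perm (Fin m)) b = a := by rw [hb]; exact hback a ha
    have hab : a ≠ b := fun h => ha (by rw [hxa, ← hb, ← h])
    obtain ⟨c, hca, hcb, hxc⟩ : ∃ c, c ≠ a ∧ c ≠ b ∧ (x : Perm (Fin m)) c ≠ c := by
      by_contra h
      push Not at h
      have e : (x : Perm (Fin m)) = Equiv.swap a b := Equiv.ext fun y => by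
        rcases eq_or_ne y a with rfl | hya
        · rw [Equiv.swap_apply_left, hxa, hb]
        rcases eq_or_ne y b with rfl | hyb
        · rw [Equiv.swap_apply_right, hxb]
        rw [Equiv.swap_apply_of_ne_of_ne hya hyb, h y hya hyb]
      have hs := Perm.mem_alternatingGroup.1 x.2
      rw [e, Perm.sign_swap hab] at hs
      exact absurd hs (by decide)
    obtain ⟨k, hk⟩ : ∃ k, k = (d : Perm (Fin m)) c := ⟨_, rfl⟩
    have hxc' : (x : Perm (Fin m)) c = k := by rw [hk]; exact (hx c).resolve_left hxc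
    have hdk : (d : Perm (Fin m)) k = c := by rw [hk, hdd]
    have hxk : (x : Perm (Fin m)) k = c := by rw [hk]; exact hback c hxc
    have hkc : k ≠ c := fun h => hxc (by rw [hxc', h])
    have hka : k ≠ a := fun h => hcb (by rw [← hdk, h, hb])
    have hkb : k ≠ b := fun h => hca (by rw [← hdk, h, hdb])
    have hpres : ∀ y, y ≠ a → y ≠ b → y ≠ c → y ≠ k →
        (d : Perm (Fin m)) y ≠ a ∧ (d : Perm (Fin m)) y ≠ b ∧ (d : Perm (Fin m)) y ≠ c ∧
          (d : Perm (Fin m)) y ≠ k := fun y h1 h2 h3 h4 =>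
      ⟨fun h => h2 (by rw [← hdd y, h, hb]), fun h => h1 (by rw [← hdd y, h, hdb]),
        fun h => h4 (by rw [← hdd y, h, hk]), fun h => h3 (by rw [← hdd y, h, hdk])⟩
    -- two further points interchanged with each other or both fixed
    obtain ⟨g, hga, hgb, hgc, hgk, h, hha, hhb, hhc, hhk, hgh, hpair⟩ :
        ∃ g, g ≠ a ∧ g ≠ b ∧ g ≠ c ∧ g ≠ k ∧ ∃ h, h ≠ a ∧ h ≠ b ∧ h ≠ c ∧ h ≠ k ∧ g ≠ h ∧
          ((d : Perm (Fin m)) g = h ∨ ((d : Perm (Fin m)) g = g ∧ (d : Perm (Fin m)) h = h)) := by
      have hout : ∀ s : Finset (Fin m), s.card < m → ∃ y, y ∉ s := fun s hs => by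
        by_contra hcon
        push Not at hcon
        have := Finset.card_le_card (fun y (_ : y ∈ Finset.univ) => hcon y)
        simp at this
        omega
      obtain ⟨g, hg⟩ := hout {a, b, c, k} (Finset.card_le_four.trans_lt (by omega))
      simp only [Finset.mem_insert, Finset.mem_singleton, not_or] at hg
      obtain ⟨hga, hgb, hgc, hgk⟩ := hg
      by_cases hgf : (d : Perm (Fin m)) g = g
      · obtain ⟨h, hh⟩ := hout {a, b, c, k, g} (Finset.card_le_five.trans_lt (by omega))
        simp only [Finset.mem_insert, Finset.mem_singleton, not_or] at hh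
        obtain ⟨hha, hhb, hhc, hhk, hhg⟩ := hh
        by_cases hhf : (d : Perm (Fin m)) h = h
        · exact ⟨g, hga, hgb, hgc, hgk, h, hha, hhb, hhc, hhk, Ne.symm hhg, Or.inr ⟨hgf, hhf⟩⟩
        · obtain ⟨p1, p2, p3, p4⟩ := hpres h hha hhb hhc hhk
          exact ⟨h, hha, hhb, hhc, hhk, _, p1, p2, p3, p4, Ne.symm hhf, Or.inl rfl⟩
      · obtain ⟨p1, p2, p3, p4⟩ := hpres g hga hgb hgc hgk
        exact ⟨g, hga, hgb, hgc, hgk, _, p1, p2, p3, p4, Ne.symm hgf, Or.inl rfl⟩
    have hcomm : ∀ p q : Fin m, Equiv.swap ((d : Perm (Fin m)) p) ((d : Perm (Fin m)) q) =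
        (d : Perm (Fin m)) * Equiv.swap p q * (d : Perm (Fin m))⁻¹ := fun p q =>
      Equiv.swap_apply_apply _ p q
    have hgr : Commute (d : Perm (Fin m)) (Equiv.swap g h) := by
      rw [commute_iff_eq, ← mul_inv_eq_iff_eq_mul, ← hcomm]
      rcases hpair with e | ⟨e1, e2⟩
      · rw [← e, hdd, Equiv.swap_comm]
      · rw [e1, e2]
    have hdab : Commute (d : Perm (Fin m)) (Equiv.swap a b) := by
      rw [commute_iff_eq, ← mul_inv_eq_iff_eq_mul, ← hcomm, ← hb, hdb, Equiv.swap_comm]
    have hdck : Commute (d : Perm (Fin m)) (Equiv.swap c k) := by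
      rw [commute_iff_eq, ← mul_inv_eq_iff_eq_mul, ← hcomm, ← hk, hdk, Equiv.swap_comm]
    have hdac : Commute (d : Perm (Fin m)) (Equiv.swap a c * Equiv.swap b k) := by
      rw [commute_iff_eq, ← mul_inv_eq_iff_eq_mul, mul_assoc (d : Perm (Fin m)),
        show (d : Perm (Fin m)) * ((Equiv.swap a c * Equiv.swap b k) * (d : Perm (Fin m))⁻¹) =
          ((d : Perm (Fin m)) * Equiv.swap a c * (d : Perm (Fin m))⁻¹) *
            ((d : Perm (Fin m)) * Equiv.swap b k * (d : Perm (Fin m))⁻¹) by group,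
        ← hcomm, ← hcomm, ← hb, ← hk, hdb, hdk]
      refine ((Perm.Disjoint.commute ?_).eq).symm
      intro y
      by_cases hy : y = a ∨ y = c
      · refine Or.inr ?_
        rcases hy with rfl | rfl
        · exact Equiv.swap_apply_of_ne_of_ne hab hka.symm
        · exact Equiv.swap_apply_of_ne_of_ne hcb hkc.symm
      · push Not at hy
        exact Or.inl (Equiv.swap_apply_of_ne_of_ne hy.1 hy.2)
    set s : Perm (Fin m) := Equiv.swap a c * Equiv.swap b k with hs
    set u : Perm (Fin m) := Equiv.swap a b * Equiv.swap g h with hu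
    have hs_even : s ∈ alternatingGroup (Fin m) := by
      rw [Perm.mem_alternatingGroup, hs, Perm.sign_mul, Perm.sign_swap hca.symm, Perm.sign_swap hkb.symm]
      decide
    have hu_even : u ∈ alternatingGroup (Fin m) := by
      rw [Perm.mem_alternatingGroup, hu, Perm.sign_mul, Perm.sign_swap hab, Perm.sign_swap hgh]
      decide
    set τ : alternatingGroup (Fin m) := ⁅(⟨s, hs_even⟩ : alternatingGroup (Fin m)), ⟨u, hu_even⟩⁆
      with hτ
    have hτv : (τ : Perm (Fin m)) = Equiv.swap c k * Equiv.swap a b := by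
      have e1 : s a = c := by
        rw [hs, Perm.mul_apply, Equiv.swap_apply_of_ne_of_ne hab hka.symm, Equiv.swap_apply_left]
      have e2 : s b = k := by
        rw [hs, Perm.mul_apply, Equiv.swap_apply_left, Equiv.swap_apply_of_ne_of_ne hka hkc]
      have e3 : s g = g := by
        rw [hs, Perm.mul_apply, Equiv.swap_apply_of_ne_of_ne hgb hgk,
          Equiv.swap_apply_of_ne_of_ne hga hgc]
      have e4 : s h = h := by
        rw [hs, Perm.mul_apply, Equiv.swap_apply_of_ne_of_ne hhb hhk,
          Equiv.swap_apply_of_ne_of_ne hha hhc]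
      show s * u * s⁻¹ * u⁻¹ = _
      rw [hu, show s * (Equiv.swap a b * Equiv.swap g h) * s⁻¹ =
          (s * Equiv.swap a b * s⁻¹) * (s * Equiv.swap g h * s⁻¹) by group,
        ← Equiv.swap_apply_apply, ← Equiv.swap_apply_apply, e1, e2, e3, e4, mul_inv_rev,
        Equiv.swap_inv, Equiv.swap_inv, mul_assoc, Equiv.swap_mul_self_mul]
    have hsd : Commute (⟨s, hs_even⟩ : alternatingGroup (Fin m)) d := Subtype.ext hdac.symm.eq
    have hud : Commute (⟨u, hu_even⟩ : alternatingGroup (Fin m)) d :=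
      Subtype.ext (hdab.mul_right hgr).symm.eq
    have hτH : f τ ∈ H := by
      rw [hτ, map_commutatorElement]
      exact Subgroup.commutator_mem_commutator (hmem _ hsd) (hmem _ hud)
    have hx' : ∀ y, ((x * τ : alternatingGroup (Fin m)) : Perm (Fin m)) y = y ∨
        (((x * τ : alternatingGroup (Fin m)) : Perm (Fin m)) y = (x : Perm (Fin m)) y ∧
          y ≠ a ∧ y ≠ b) := by
      intro y
      rw [Subgroup.coe_mul, hτv, Perm.mul_apply, Perm.mul_apply]
      rcases eq_or_ne y a with rfl | hya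
      · exact Or.inl (by
          rw [Equiv.swap_apply_left, Equiv.swap_apply_of_ne_of_ne hcb.symm hkb.symm, hxb])
      rcases eq_or_ne y b with rfl | hyb
      · exact Or.inl (by
          rw [Equiv.swap_apply_right, Equiv.swap_apply_of_ne_of_ne hca.symm hka.symm, hxa, hb])
      rw [Equiv.swap_apply_of_ne_of_ne hya hyb]
      rcases eq_or_ne y c with rfl | hyc
      · exact Or.inl (by rw [Equiv.swap_apply_left, hxk])
      rcases eq_or_ne y k with rfl | hyk
      · exact Or.inl (by rw [Equiv.swap_apply_right, hxc'])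
      exact Or.inr ⟨by rw [Equiv.swap_apply_of_ne_of_ne hyc hyk], hya, hyb⟩
    have hlt : ((x * τ : alternatingGroup (Fin m)) : Perm (Fin m)).support.card <
        (x : Perm (Fin m)).support.card := by
      refine Finset.card_lt_card (Finset.ssubset_iff_subset_ne.2 ⟨fun y hy => ?_, fun he => ?_⟩)
      · rw [Perm.mem_support] at hy ⊢
        obtain ⟨e, -⟩ := (hx' y).resolve_left hy
        rwa [e] at hy
      · have hmem' := Perm.mem_support.2 ha
        rw [← he, Perm.mem_support] at hmem'
        exact absurd rfl ((hx' a).resolve_left hmem').2.1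
    have hxτ : x = x * τ * τ⁻¹ := by group
    rw [hxτ, map_mul, map_inv]
    refine mul_mem (ih _ (fun y => ?_) (by omega)) (inv_mem hτH)
    rcases hx' y with e | ⟨e, -⟩
    · exact Or.inl e
    · rw [e]; exact hx y

theorem no_involution {m : ℕ} (hm : m ≤ 3) (x : alternatingGroup (Fin m)) (hx : x * x = 1) :
    x = 1 := by
  interval_cases m <;> revert x <;> decide

theorem sq_four : ∀ x : alternatingGroup (Fin 4), x * x * (x * x) = 1 → x * x = 1 := by
  decide +kernel

theorem sq_five : ∀ x : alternatingGroup (Fin 5), x * x * (x * x) = 1 → x * x = 1 := by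
  decide +kernel

theorem conj_four : ∀ x y : alternatingGroup (Fin 4), x * x = 1 → x ≠ 1 → y * y = 1 → y ≠ 1 →
    ∃ g, g * x * g⁻¹ = y := by
  decide +kernel

theorem conj_five : ∀ x y : alternatingGroup (Fin 5), x * x = 1 → x ≠ 1 → y * y = 1 → y ≠ 1 →
    ∃ g, g * x * g⁻¹ = y := by
  decide +kernel

/-- A normal subgroup containing `x` contains an involution. -/
theorem odd_four : ∀ x : alternatingGroup (Fin 4), x ≠ 1 → ∃ g,
    (x * (g * x⁻¹ * g⁻¹)) * (x * (g * x⁻¹ * g⁻¹)) = 1 ∧ x * (g * x⁻¹ * g⁻¹) ≠ 1 := by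
  decide +kernel

theorem odd_five : ∀ x : alternatingGroup (Fin 5), x ≠ 1 → ∃ g,
    ((x * (g * x⁻¹ * g⁻¹)) * (x * (g * x⁻¹ * g⁻¹)) = 1 ∧ x * (g * x⁻¹ * g⁻¹) ≠ 1) ∨
    ((x * x * (g * x * g⁻¹)) * (x * x * (g * x * g⁻¹)) = 1 ∧ x * x * (g * x * g⁻¹) ≠ 1) ∨
    (x * x = 1) := by
  decide +kernel

theorem invol_card_four :
    Nat.card {x : alternatingGroup (Fin 4) // x * x = 1} = 4 := by
  rw [Nat.card_eq_fintype_card]
  decide +kernel

theorem not_commute_four : ∀ x q : alternatingGroup (Fin 4), x * x ≠ 1 → q * q = 1 → q ≠ 1 →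
    x * q ≠ q * x := by
  decide +kernel

end CfsgLib.TwoTimesAlt
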