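import Cfsg.Agent.Lib.Recognition.TwoTimesAlt.AltFacts
import Cfsg.Agent.Lib.Transfer.Basic
import Cfsg.Agent.Lib.Characters.Basic
import Cfsg.Prelude.Def_SporadicB
import Cfsg.Prelude.Def_TwoFusion

/-!
An involution centralizer `⟨J⟩ × T`: commutators lie in `T`, and without a subgroup of index two some
involution of `T` is conjugate to `J`.
-/

set_option autoImplicit false

namespace CfsgLib.TwoTimesAlt

open Cfsg
open scoped commutatorElement

variable {G : Type*} [Group G]

/-- `C(J) = ⟨J⟩ × T` for an involution `J` in the centre of a Sylow `2`-subgroup. -/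
structure Cent (J : G) (T : Subgroup G) : Prop where
  ht : IsTwoCentralInvolution J
  hd : IsInternalDirectProduct (Subgroup.zpowers J) T (Subgroup.centralizer ({J} : Set G))

variable {J : G} {T : Subgroup G}

theorem Cent.mul_self (h : Cent J T) : J * J = 1 := by
  rw [← pow_two, ← h.ht.1, pow_orderOf_eq_one]

theorem Cent.ne_one (h : Cent J T) : J ≠ 1 := fun e => by
  have := h.ht.1
  rw [e, orderOf_one] at this
  omega

theorem Cent.mem_C {x : G} : x ∈ Subgroup.centralizer ({J} : Set G) ↔ x * J = J * x :=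
  Subgroup.mem_centralizer_singleton_iff

theorem Cent.le (h : Cent J T) : T ≤ Subgroup.centralizer ({J} : Set G) := h.hd.2.1

theorem Cent.comm (h : Cent J T) {x : G} (hx : x ∈ T) : x * J = J * x :=
  Cent.mem_C.1 (h.le hx)

theorem Cent.not_mem (h : Cent J T) : J ∉ T := fun hJ =>
  h.ne_one (Subgroup.mem_bot.1 (h.hd.2.2.2.1 ▸ (⟨Subgroup.mem_zpowers J, hJ⟩ :
    J ∈ Subgroup.zpowers J ⊓ T)))

theorem Cent.decomp (h : Cent J T) {c : G} (hc : c ∈ Subgroup.centralizer ({J} : Set G)) :
    c ∈ T ∨ J * c ∈ T := by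
  let K : Subgroup G :=
    { carrier := {x | x ∈ T ∨ ∃ s ∈ T, x = J * s}
      one_mem' := Or.inl T.one_mem
      mul_mem' := by
        rintro a b (ha | ⟨s, hs, rfl⟩) (hb | ⟨u, hu, rfl⟩)
        · exact Or.inl (mul_mem ha hb)
        · exact Or.inr ⟨a * u, mul_mem ha hu, by rw [← mul_assoc, h.comm ha, mul_assoc]⟩
        · exact Or.inr ⟨s * b, mul_mem hs hb, by rw [mul_assoc]⟩
        · refine Or.inl ?_
          rw [show J * s * (J * u) = (J * J) * (s * u) by
            rw [mul_assoc J s, ← mul_assoc s J, h.comm hs]; group, h.mul_self, one_mul]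
          exact mul_mem hs hu
      inv_mem' := by
        rintro a (ha | ⟨s, hs, rfl⟩)
        · exact Or.inl (inv_mem ha)
        · exact Or.inr ⟨s⁻¹, inv_mem hs, by
            rw [mul_inv_rev, inv_eq_of_mul_eq_one_right h.mul_self, h.comm (inv_mem hs)]⟩ }
  have hK : Subgroup.centralizer ({J} : Set G) ≤ K := by
    rw [← h.hd.2.2.2.2]
    refine sup_le ((Subgroup.zpowers_le).2 (Or.inr ⟨1, T.one_mem, (mul_one J).symm⟩)) ?_
    exact fun x hx => Or.inl hx
  rcases hK hc with hc | ⟨s, hs, rfl⟩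
  · exact Or.inl hc
  · exact Or.inr (by rw [← mul_assoc, h.mul_self, one_mul]; exact hs)

theorem Cent.J_mem (h : Cent J T) : J ∈ Subgroup.centralizer ({J} : Set G) := h.hd.1 (Subgroup.mem_zpowers J)

/-- The centralizer as a product of `⟨J⟩` and `T`. -/
theorem Cent.card_C [Finite G] (h : Cent J T) :
    Nat.card (Subgroup.centralizer ({J} : Set G)) = 2 * Nat.card T := by
  rw [← Nat.card_congr (Subgroup.subgroupOfEquivOfLe h.le).toEquiv,
    ← Subgroup.card_mul_index (T.subgroupOf (Subgroup.centralizer ({J} : Set G))),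
    show (T.subgroupOf (Subgroup.centralizer ({J} : Set G))).index = 2 from ?_, mul_comm]
  refine Subgroup.index_eq_two_iff.2 ⟨⟨J, h.J_mem⟩, fun b => ?_⟩
  simp only [Subgroup.mem_subgroupOf, Subgroup.coe_mul]
  rw [Cent.mem_C.1 b.2]
  rcases h.decomp b.2 with hb | hb
  · exact Or.inr ⟨hb, fun hh => h.not_mem (by simpa using mul_mem hh (inv_mem hb))⟩
  · exact Or.inl ⟨hb, fun hh => h.not_mem (by simpa using mul_mem hb (inv_mem hh))⟩

theorem Cent.commutator_le (h : Cent J T) :
    ⁅Subgroup.centralizer ({J} : Set G), Subgroup.centralizer ({J} : Set G)⁆ ≤ T := by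
  rw [Subgroup.commutator_le]
  intro a ha b hb
  -- commutators do not change under multiplication by the central element `J`
  have key : ∀ x y : G, x ∈ Subgroup.centralizer ({J} : Set G) →
      y ∈ Subgroup.centralizer ({J} : Set G) →
        ⁅J * x, y⁆ = ⁅x, y⁆ ∧ ⁅x, J * y⁆ = ⁅x, y⁆ := by
    intro x y hx hy
    have hJx : Commute J x := (Cent.mem_C.1 hx).symm
    have hJy : Commute J y := (Cent.mem_C.1 hy).symm
    have hJc : Commute J ⁅x, y⁆ := by
      rw [commutatorElement_def]
      exact ((hJx.mul_right hJy).mul_right hJx.inv_right).mul_right hJy.inv_right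
    constructor
    · rw [show ⁅J * x, y⁆ = J * ⁅x, y⁆ * (y * J⁻¹ * y⁻¹) by rw [commutatorElement_def, commutatorElement_def]; group,
        show y * J⁻¹ * y⁻¹ = J⁻¹ by rw [← hJy.inv_left.eq, mul_inv_cancel_right],
        hJc.eq, mul_inv_cancel_right]
    · rw [show ⁅x, J * y⁆ = (x * J * x⁻¹) * ⁅x, y⁆ * J⁻¹ by rw [commutatorElement_def, commutatorElement_def]; group,
        show x * J * x⁻¹ = J by rw [← hJx.eq, mul_inv_cancel_right],
        hJc.eq, mul_inv_cancel_right]
  obtain ⟨a', ha', ea⟩ : ∃ a', a' ∈ T ∧ ⁅a, b⁆ = ⁅a', b⁆ := by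
    rcases h.decomp ha with h1 | h1
    · exact ⟨a, h1, rfl⟩
    · exact ⟨J * a, h1, (key a b ha hb).1.symm⟩
  rw [ea]
  rcases h.decomp hb with h1 | h1
  · rw [commutatorElement_def]
    exact mul_mem (mul_mem (mul_mem ha' h1) (inv_mem ha')) (inv_mem h1)
  · rw [← (key a' b (h.le ha') hb).2, commutatorElement_def]
    exact mul_mem (mul_mem (mul_mem ha' h1) (inv_mem ha')) (inv_mem h1)

/-- `J` is not conjugate to an element which is a product of commutators of its centralizer. -/
theorem Cent.not_isConj (h : Cent J T) {d : G}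
    (hd : d ∈ ⁅Subgroup.centralizer ({d} : Set G), Subgroup.centralizer ({d} : Set G)⁆) :
    ¬ IsConj J d := by
  rintro hc
  obtain ⟨g, rfl⟩ := isConj_iff.1 hc
  refine h.not_mem (h.commutator_le ?_)
  have hle : (Subgroup.centralizer ({g * J * g⁻¹} : Set G)).map (MulAut.conj g⁻¹).toMonoidHom ≤
      Subgroup.centralizer ({J} : Set G) := by
    rintro _ ⟨x, hx, rfl⟩
    have hx' := Subgroup.mem_centralizer_singleton_iff.1 hx
    show (MulAut.conj g⁻¹) x ∈ _
    rw [Cent.mem_C, MulAut.conj_apply, inv_inv,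
      show g⁻¹ * x * g * J = g⁻¹ * (x * (g * J * g⁻¹)) * g by group, hx']
    group
  have := Subgroup.mem_map_of_mem (MulAut.conj g⁻¹).toMonoidHom hd
  rw [Subgroup.map_commutator] at this
  refine Subgroup.commutator_mono hle hle ?_
  simpa [mul_assoc] using this

/-- Without a subgroup of index two, some element of `T` is conjugate to `J`. -/
theorem Cent.exists_isConj [Finite G] (h : Cent J T)
    (h2 : ∀ N : Subgroup G, N.Normal → N.index ≠ 2) : ∃ d ∈ T, IsConj J d := by
  obtain ⟨-, P, hJP, hP⟩ := h.ht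
  by_contra hcon
  push Not at hcon
  have hPC : (P : Subgroup G) ≤ Subgroup.centralizer ({J} : Set G) := fun x hx =>
    Cent.mem_C.2 (hP x hx)
  have hQ : (T ⊓ (P : Subgroup G)).relIndex (P : Subgroup G) = 2 := by
    rw [Subgroup.relIndex, Subgroup.index_eq_two_iff]
    refine ⟨⟨J, hJP⟩, fun b => ?_⟩
    simp only [Subgroup.mem_subgroupOf, Subgroup.coe_mul, Subgroup.mem_inf]
    rw [hP b b.2]
    rcases h.decomp (hPC b.2) with hb | hb
    · exact Or.inr ⟨⟨hb, b.2⟩, fun hh => h.not_mem (by simpa using mul_mem hh.1 (inv_mem hb))⟩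
    · exact Or.inl ⟨⟨hb, mul_mem hJP b.2⟩,
        fun hh => h.not_mem (by simpa using mul_mem hb (inv_mem hh.1))⟩
  obtain ⟨M, hM, hMi, -⟩ := CfsgLib.Transfer.thompson_transfer P (T ⊓ (P : Subgroup G)) hQ J
    (by rw [pow_two, h.mul_self]) (fun g _ hgT => hcon _ hgT.1 (isConj_iff.2 ⟨g, rfl⟩))
  exact h2 M hM hMi

/-- `J` and any element of `T` conjugate to it: an involution of `T`. -/
theorem Cent.isConj_involution (h : Cent J T) {d : G} (hd : IsConj J d) : d * d = 1 ∧ d ≠ 1 := by
  obtain ⟨g, rfl⟩ := isConj_iff.1 hd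
  refine ⟨?_, fun e => h.ne_one (by simpa using e)⟩
  rw [show g * J * g⁻¹ * (g * J * g⁻¹) = g * (J * J) * g⁻¹ by group, h.mul_self]
  group

/-- `T` alternating of degree at most three or at least six is impossible. -/
theorem Cent.degree [Finite G] (h : Cent J T) (h2 : ∀ N : Subgroup G, N.Normal → N.index ≠ 2) {m : ℕ}
    (e : T ≃* alternatingGroup (Fin m)) : m = 4 ∨ m = 5 := by
  obtain ⟨d, hdT, hd⟩ := h.exists_isConj h2
  obtain ⟨hd2, hd1⟩ := h.isConj_involution hd
  have hed : e ⟨d, hdT⟩ * e ⟨d, hdT⟩ = 1 := by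
    rw [← map_mul, show (⟨d, hdT⟩ : T) * ⟨d, hdT⟩ = 1 from Subtype.ext hd2, map_one]
  by_contra hm
  rcases Nat.lt_or_ge m 6 with h6 | h6
  · refine hd1 ?_
    have := no_involution (by omega) _ hed
    exact congrArg Subtype.val ((MulEquiv.map_eq_one_iff e).1 this)
  · refine h.not_isConj ?_ hd
    have := mem_commutator_centralizer h6 (T.subtype.comp e.symm.toMonoidHom) _ hed
    simpa using this

end CfsgLib.TwoTimesAlt
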