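import Cfsg.Agent.Lib.Recognition.TwoTimesAlt.Basic
import Cfsg.Agent.Lib.PCore.Basic
import Cfsg.Agent.Lib.Characters.Decomp
import Mathlib.GroupTheory.Sylow

/-!
An involution centralizer `2 × Alt(4)` or `2 × Alt(5)` without a subgroup of index two: elementary
abelian Sylow `2`-subgroups of order eight, one class of involutions, no normal subgroup of odd order,
and the normal closure of the involution is simple unless a Sylow `2`-subgroup is normal.
-/

set_option autoImplicit false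
set_option linter.style.haveILetI false

namespace CfsgLib.TwoTimesAlt

open Cfsg
open scoped commutatorElement

variable {G : Type*} [Group G]

/-- The common properties of `Alt(4)` and `Alt(5)` used here, for `C(J) = ⟨J⟩ × T`. -/
structure Small (J : G) (T : Subgroup G) : Prop extends Cent J T where
  h2 : ∀ N : Subgroup G, N.Normal → N.index ≠ 2
  sq : ∀ x ∈ T, x * x * (x * x) = 1 → x * x = 1
  conj : ∀ x ∈ T, ∀ y ∈ T, x * x = 1 → x ≠ 1 → y * y = 1 → y ≠ 1 → ∃ g ∈ T, g * x * g⁻¹ = y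
  card : ∃ r, Odd r ∧ Nat.card T = 4 * r
  odd : ∀ N : Subgroup G, (∀ g ∈ T, ∀ x ∈ N, g * x * g⁻¹ ∈ N) → ∀ x ∈ N, x ∈ T → x ≠ 1 →
    ∃ y ∈ N, y * y = 1 ∧ y ≠ 1

variable {J : G} {T : Subgroup G}

theorem conj_mul_self {x g : G} (hx : x * x = 1) : g * x * g⁻¹ * (g * x * g⁻¹) = 1 := by
  rw [show g * x * g⁻¹ * (g * x * g⁻¹) = g * (x * x) * g⁻¹ by group, hx]
  group

theorem conj_ne_one {x g : G} (hx : x ≠ 1) : g * x * g⁻¹ ≠ 1 := fun e => hx (by simpa using e)

theorem Small.exists_sylow (h : Small J T) :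
    ∃ P : Sylow 2 G, J ∈ P ∧ (P : Subgroup G) ≤ Subgroup.centralizer ({J} : Set G) := by
  obtain ⟨-, P, hJ, hP⟩ := h.ht
  exact ⟨P, hJ, fun x hx => Cent.mem_C.2 (hP x hx)⟩

section Sylow

variable [Finite G] (h : Small J T) {P : Sylow 2 G} (hJ : J ∈ (P : Subgroup G))
  (hPC : (P : Subgroup G) ≤ Subgroup.centralizer ({J} : Set G))

include h hPC in
theorem Small.card_P : Nat.card (P : Subgroup G) = 8 := by
  haveI : Fact (Nat.Prime 2) := ⟨Nat.prime_two⟩
  obtain ⟨r, hr, hT⟩ := h.card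
  obtain ⟨k, hk⟩ := P.2.exists_card_eq
  have h1 : Nat.card (P : Subgroup G) ∣ 8 * r := by
    have := Subgroup.card_dvd_of_le hPC
    rwa [h.toCent.card_C, hT, ← mul_assoc] at this
  have h3 : (8 : ℕ) ∣ Nat.card G :=
    (dvd_mul_right 8 r).trans (by
      have := Subgroup.card_subgroup_dvd_card (Subgroup.centralizer ({J} : Set G))
      rwa [h.toCent.card_C, hT, ← mul_assoc] at this)
  have h4 : (8 : ℕ) ∣ Nat.card (P : Subgroup G) := by
    simpa using P.pow_dvd_card_of_pow_dvd_card (n := 3) (by simpa using h3)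
  refine Nat.dvd_antisymm ?_ h4
  refine Nat.Coprime.dvd_of_dvd_mul_right ?_ h1
  rw [hk]
  exact (Nat.coprime_two_left.2 hr).pow_left k

include h hJ hPC in
theorem Small.card_inter : Nat.card ↥(T ⊓ (P : Subgroup G)) = 4 := by
  have hQ : ((T ⊓ (P : Subgroup G)).subgroupOf (P : Subgroup G)).index = 2 := by
    rw [Subgroup.index_eq_two_iff]
    refine ⟨⟨J, hJ⟩, fun b => ?_⟩
    simp only [Subgroup.mem_subgroupOf, Subgroup.coe_mul, Subgroup.mem_inf]
    rw [Cent.mem_C.1 (hPC b.2)]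
    rcases h.decomp (hPC b.2) with hb | hb
    · exact Or.inr ⟨⟨hb, b.2⟩, fun hh => h.not_mem (by simpa using mul_mem hh.1 (inv_mem hb))⟩
    · exact Or.inl ⟨⟨hb, mul_mem hJ b.2⟩,
        fun hh => h.not_mem (by simpa using mul_mem hb (inv_mem hh.1))⟩
  have h1 := Subgroup.card_mul_index ((T ⊓ (P : Subgroup G)).subgroupOf (P : Subgroup G))
  rw [hQ, h.card_P hPC, Nat.card_congr (Subgroup.subgroupOfEquivOfLe inf_le_right).toEquiv] at h1
  omega

include h hJ hPC in
theorem Small.sq_P {x : G} (hx : x ∈ (P : Subgroup G)) : x * x = 1 := by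
  have key : ∀ y ∈ (P : Subgroup G), y ∈ T → y * y = 1 := fun y hyP hyT => by
    refine h.sq y hyT ?_
    have h1 : (⟨y, hyT, hyP⟩ : ↥(T ⊓ (P : Subgroup G))) ^ 4 = 1 := by
      rw [← h.card_inter hJ hPC]
      exact pow_card_eq_one'
    have h2 := congrArg Subtype.val h1
    simp only [SubmonoidClass.coe_pow, OneMemClass.coe_one] at h2
    rw [← h2]
    simp only [pow_succ, pow_zero, one_mul, mul_assoc]
  rcases h.decomp (hPC hx) with h1 | h1
  · exact key x hx h1
  · have h2 := key _ (mul_mem hJ hx) h1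
    rwa [show J * x * (J * x) = (J * J) * (x * x) by
      rw [mul_assoc J x, ← mul_assoc x J, Cent.mem_C.1 (hPC hx)]; group, h.mul_self, one_mul] at h2

include h hJ hPC in
theorem Small.comm_P {x y : G} (hx : x ∈ (P : Subgroup G)) (hy : y ∈ (P : Subgroup G)) :
    x * y = y * x := by
  have hinv : ∀ r ∈ (P : Subgroup G), r⁻¹ = r := fun r hr =>
    inv_eq_of_mul_eq_one_right (h.sq_P hJ hPC hr)
  rw [← hinv _ (mul_mem hx hy), mul_inv_rev, hinv x hx, hinv y hy]

include h hJ hPC in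
/-- All involutions of the Sylow subgroup are conjugate to `J`. -/
theorem Small.isConj_P {s : G} (hs : s ∈ (P : Subgroup G)) (hs1 : s ≠ 1) : IsConj J s := by
  classical
  haveI : Fact (Nat.Prime 2) := ⟨Nat.prime_two⟩
  by_contra hcon
  obtain ⟨d, hdT, hd⟩ := h.exists_isConj h.h2
  obtain ⟨hd2, hd1⟩ := h.isConj_involution hd
  have hT : ∀ q ∈ T, q * q = 1 → q ≠ 1 → IsConj J q := fun q hq hq2 hq1 => by
    obtain ⟨g, -, hg⟩ := h.conj d hdT q hq hd2 hd1 hq2 hq1
    exact hd.trans (isConj_iff.2 ⟨g, hg⟩)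
  have hset : {x : G | x ∈ (P : Subgroup G) ∧ IsConj J x} =
      insert J ((↑(T ⊓ (P : Subgroup G)) : Set G) \ {1}) := by
    ext x
    constructor
    · rintro ⟨hxP, hxJ⟩
      rcases h.decomp (hPC hxP) with h1 | h1
      · exact Or.inr ⟨⟨h1, hxP⟩, (h.isConj_involution hxJ).2⟩
      · by_cases hxj : x = J
        · exact Or.inl hxj
        exfalso
        -- `x = J * q`, and `s = J * q'` with `q`, `q'` conjugate in `T`
        have hsT : ¬ s ∈ T := fun hh => hcon (hT s hh (h.sq_P hJ hPC hs) hs1)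
        have hs' : J * s ∈ T := (h.decomp (hPC hs)).resolve_left hsT
        have hsJ : J * s ≠ 1 := fun e => hcon (by
          rw [show s = J from (mul_left_cancel (a := J) (e.trans h.mul_self.symm))])
        have hxJ' : J * x ≠ 1 := fun e => hxj (mul_left_cancel (a := J) (e.trans h.mul_self.symm))
        obtain ⟨g, hgT, hg⟩ := h.conj _ h1 _ hs' (h.sq_P hJ hPC (mul_mem hJ hxP)) hxJ'
          (h.sq_P hJ hPC (mul_mem hJ hs)) hsJ
        refine hcon (hxJ.trans (isConj_iff.2 ⟨g, ?_⟩))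
        refine mul_left_cancel (a := J) ?_
        rw [← hg, ← mul_assoc J, ← mul_assoc J, ← h.comm hgT, mul_assoc g J x]
    · rintro (rfl | ⟨⟨hq, hqP⟩, hq1⟩)
      · exact ⟨hJ, IsConj.refl _⟩
      · exact ⟨hqP, hT x hq (h.sq_P hJ hPC hqP) hq1⟩
  have hcard : {x : G | x ∈ (P : Subgroup G) ∧ IsConj J x}.ncard = 4 := by
    rw [hset, Set.ncard_insert_of_notMem (fun hh => h.not_mem hh.1.1),
      Set.ncard_sdiff_singleton_of_mem (one_mem _), ← Nat.card_coe_set_eq,
      SetLike.coe_sort_coe, h.card_inter hJ hPC]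
  -- the class of `J` has odd size and its fixed points under `P` lie in `P`
  let K : Type _ := {x : G // IsConj J x}
  letI act : MulAction (P : Subgroup G) K :=
    { smul := fun a x => ⟨(a : G) * x.1 * (a : G)⁻¹, x.2.trans (isConj_iff.2 ⟨(a : G), rfl⟩)⟩
      one_smul := fun x => Subtype.ext (by simp [HSMul.hSMul, SMul.smul])
      mul_smul := fun a b x => Subtype.ext (by simp [HSMul.hSMul, SMul.smul, mul_assoc]) }
  have smul_def : ∀ (a : (P : Subgroup G)) (x : K), ((a • x : K) : G) = (a : G) * x.1 * (a : G)⁻¹ :=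
    fun _ _ => rfl
  have hfix : Nat.card (MulAction.fixedPoints (P : Subgroup G) K) = 4 := by
    rw [← hcard, ← Nat.card_coe_set_eq]
    refine Nat.card_eq_of_bijective (fun x => ⟨x.1.1, ?_, x.1.2⟩) ⟨fun a b hab => ?_, fun y => ?_⟩
    · obtain ⟨⟨x, hxJ⟩, hx⟩ := x
      have hxc : ∀ a ∈ (P : Subgroup G), Commute a x := fun a ha =>
        mul_inv_eq_iff_eq_mul.1 (congrArg Subtype.val (hx ⟨a, ha⟩))
      have hx2 : x * x = 1 := (h.isConj_involution hxJ).1
      have hN : Subgroup.zpowers x ≤ Subgroup.normalizer ((P : Subgroup G) : Set G) := by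
        rw [Subgroup.zpowers_le]
        refine Subgroup.centralizer_le_normalizer _ (Subgroup.mem_centralizer_iff.2 fun a ha => ?_)
        exact hxc a ha
      have hp : IsPGroup 2 ↥((P : Subgroup G) ⊔ Subgroup.zpowers x) := by
        refine IsPGroup.to_sup_of_normal_left' P.2 ?_ hN
        intro a
        refine ⟨1, Subtype.ext ?_⟩
        obtain ⟨n, hn⟩ := a.2
        rw [SubmonoidClass.coe_pow, OneMemClass.coe_one, ← hn, pow_one, pow_two, ← zpow_add,
          ← two_mul, zpow_mul, zpow_two, hx2, one_zpow]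
      show x ∈ (P : Subgroup G)
      rw [← P.3 hp le_sup_left]
      exact Subgroup.mem_sup_right (Subgroup.mem_zpowers x)
    · exact Subtype.ext (Subtype.ext (congrArg Subtype.val hab :))
    · refine ⟨⟨⟨y.1, y.2.2⟩, fun a => Subtype.ext ?_⟩, rfl⟩
      rw [smul_def]
      exact mul_inv_eq_iff_eq_mul.2 (h.comm_P hJ hPC a.2 y.2.1)
  have hK : Nat.card K % 2 = 1 := by
    have h1 : Nat.card K * Nat.card (Subgroup.centralizer ({J} : Set G)) = Nat.card G :=
      CfsgLib.Characters.card_isConj_mul_card_centralizer J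
    obtain ⟨r, -, hr⟩ := h.card
    rw [h.toCent.card_C, hr, ← Subgroup.card_mul_index (P : Subgroup G), h.card_P hPC] at h1
    have h3 : Nat.card K * r = (P : Subgroup G).index := by
      have : 8 * (Nat.card K * r) = 8 * (P : Subgroup G).index := by rw [← h1]; ring
      omega
    by_contra hK
    refine P.not_dvd_index (h3 ▸ (Dvd.dvd.mul_right ?_ r))
    omega
  have hmod := P.2.card_modEq_card_fixedPoints (α := K)
  rw [hfix, Nat.ModEq] at hmod
  omega

include h hJ hPC in
/-- One class of involutions. -/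
theorem Small.isConj_of_involution {u : G} (hu : u * u = 1) (hu1 : u ≠ 1) : IsConj J u := by
  haveI : Fact (Nat.Prime 2) := ⟨Nat.prime_two⟩
  have hp : IsPGroup 2 (Subgroup.zpowers u) := IsPGroup.of_card (n := 1) (by
    rw [Nat.card_zpowers, pow_one, orderOf_eq_prime (by rw [pow_two, hu]) hu1])
  obtain ⟨Q, hQ⟩ := hp.exists_le_sylow
  obtain ⟨g, hg⟩ := MulAction.exists_smul_eq G Q P
  have huP : g * u * g⁻¹ ∈ (P : Subgroup G) := by
    rw [← hg]
    exact Subgroup.smul_mem_pointwise_smul u (MulAut.conj g) _ (hQ (Subgroup.mem_zpowers u))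
  exact (h.isConj_P hJ hPC huP (conj_ne_one hu1)).trans
    (isConj_iff.2 ⟨g⁻¹, by group⟩)

include h hJ hPC in
/-- No normal subgroup of odd order. -/
theorem Small.eq_bot_of_odd {N : Subgroup G} (hN : N.Normal) (hodd : ¬ 2 ∣ Nat.card N) : N = ⊥ := by
  classical
  have hno : ∀ x ∈ N, x * x = 1 → x = 1 := fun x hx hx2 => by
    by_contra hx1
    refine hodd ?_
    have := N.orderOf_dvd_natCard hx
    rwa [orderOf_eq_prime (by rw [pow_two, hx2]) hx1] at this
  -- trivial intersection with every involution centralizer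
  have hfree : ∀ s : G, s * s = 1 → s ≠ 1 → ∀ x ∈ N, x * s = s * x → x = 1 := by
    intro s hs hs1 x hx hxs
    obtain ⟨g, hg⟩ := isConj_iff.1 (h.isConj_of_involution hJ hPC hs hs1)
    have hxN : g⁻¹ * x * g ∈ N := by simpa using hN.conj_mem x hx g⁻¹
    have hxC : g⁻¹ * x * g ∈ Subgroup.centralizer ({J} : Set G) := by
      rw [Cent.mem_C, show g⁻¹ * x * g * J = g⁻¹ * (x * (g * J * g⁻¹)) * g by group, hg, hxs, ← hg]
      group
    have key : ∀ z ∈ N, z ∈ Subgroup.centralizer ({J} : Set G) → z = 1 := by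
      intro z hz hzC
      rcases h.decomp hzC with h1 | h1
      · by_contra hz1
        obtain ⟨y, hy, hy2, hy1⟩ := h.odd N (fun g _ x hx => hN.conj_mem x hx g) z hz h1 hz1
        exact hy1 (hno y hy hy2)
      · exfalso
        have h2 : (J * z) ^ Nat.card N ∈ T := pow_mem h1 _
        have hzp : z ^ Nat.card N = 1 := by
          have : (⟨z, hz⟩ : N) ^ Nat.card N = 1 := pow_card_eq_one'
          rw [← SubmonoidClass.coe_pow ⟨z, hz⟩ (Nat.card N), this]
          rfl
        rw [(show Commute J z from (Cent.mem_C.1 hzC).symm).mul_pow, hzp, mul_one] at h2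
        obtain ⟨k, hk⟩ : Odd (Nat.card N) := Nat.not_even_iff_odd.1 (fun he => hodd he.two_dvd)
        rw [hk, pow_succ, pow_mul, pow_two, h.mul_self, one_pow, one_mul] at h2
        exact h.not_mem h2
    exact conj_eq_one_iff.1 (by simpa using key _ hxN hxC : g⁻¹ * x * g⁻¹⁻¹ = 1)
  obtain ⟨q, hqT, hqP, hq1⟩ : ∃ q, q ∈ T ∧ q ∈ (P : Subgroup G) ∧ q ≠ 1 := by
    have : Nontrivial ↥(T ⊓ (P : Subgroup G)) :=
      Finite.one_lt_card_iff_nontrivial.1 (by rw [h.card_inter hJ hPC]; norm_num)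
    obtain ⟨q, hq⟩ := exists_ne (1 : ↥(T ⊓ (P : Subgroup G)))
    exact ⟨q.1, q.2.1, q.2.2, fun e => hq (Subtype.ext e)⟩
  -- a fixed-point-free involution inverts `N`
  have hinvert : ∀ s : G, s * s = 1 → s ≠ 1 → ∀ x ∈ N, s * x * s⁻¹ = x⁻¹ := by
    intro s hs hs1 x hx
    let φ : N →* N :=
      { toFun := fun y => ⟨s * y * s⁻¹, hN.conj_mem y y.2 s⟩
        map_one' := Subtype.ext (by simp)
        map_mul' := fun a b => Subtype.ext (by simp [mul_assoc]) }
    have hφ : MonoidHom.FixedPointFree φ := fun y hy => Subtype.ext <| hfree s hs hs1 y y.2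
      (mul_inv_eq_iff_eq_mul.1 (congrArg Subtype.val hy)).symm
    have h2 : (φ : N → N)^[2] = id := funext fun y => Subtype.ext (by
      show s * (s * (y : G) * s⁻¹) * s⁻¹ = (y : G)
      rw [show s * (s * (y : G) * s⁻¹) * s⁻¹ = (s * s) * (y : G) * (s * s)⁻¹ by group, hs]
      group)
    exact congrArg Subtype.val (congrFun (hφ.coe_eq_inv_of_sq_eq_one h2) ⟨x, hx⟩)
  rw [Subgroup.eq_bot_iff_forall]
  intro x hx
  have hq2 := h.sq_P hJ hPC hqP
  have hJq : J * q ≠ 1 := fun e => by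
    have : q = J := mul_left_cancel (a := J) (e.trans h.mul_self.symm)
    exact h.not_mem (this ▸ hqT)
  refine hfree (J * q) (h.sq_P hJ hPC (mul_mem hJ hqP)) hJq x hx ?_
  have e1 := hinvert J h.mul_self h.ne_one x⁻¹ (inv_mem hx)
  have e2 := hinvert q hq2 hq1 x hx
  rw [inv_inv] at e1
  refine ((mul_inv_eq_iff_eq_mul (b := J * q)).1 ?_).symm
  rw [mul_inv_rev, show J * q * x * (q⁻¹ * J⁻¹) = J * (q * x * q⁻¹) * J⁻¹ by group, e2, e1]

end Sylow

end CfsgLib.TwoTimesAlt
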