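import Cfsg.Agent.Lib.Recognition.TwoTimesAlt.Normal
import Cfsg.Agent.Lib.InvChar.EightColumns
import Cfsg.Agent.Lib.InvChar.RankFourQuotient
import Cfsg.Agent.Lib.Characters.Burnside
import Cfsg.Agent.Lib.StrongEmbedding.PSLTwo
import Cfsg.Agent.Lib.AutPSL.BalanceField
import Cfsg.Agent.S0813

/-!
The cases `2 × Alt(4)` and `2 × Alt(5)`.
-/

set_option autoImplicit false
set_option linter.style.haveILetI false

namespace CfsgLib.TwoTimesAlt

open Cfsg

variable {G : Type*} [Group G] {J : G} {T : Subgroup G}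

theorem sq_of_iso {n : ℕ} (e : T ≃* alternatingGroup (Fin n))
    (hf : ∀ x : alternatingGroup (Fin n), x * x * (x * x) = 1 → x * x = 1) {x : G} (hx : x ∈ T)
    (h4 : x * x * (x * x) = 1) : x * x = 1 := by
  refine congrArg Subtype.val (e.injective (?_ : e (⟨x, hx⟩ * ⟨x, hx⟩) = e 1))
  rw [map_mul, map_one]
  refine hf _ ?_
  rw [← map_mul, ← map_mul, ← map_one e]
  exact congrArg e (Subtype.ext h4)

theorem conj_of_iso {n : ℕ} (e : T ≃* alternatingGroup (Fin n))
    (hf : ∀ x y : alternatingGroup (Fin n), x * x = 1 → x ≠ 1 → y * y = 1 → y ≠ 1 →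
      ∃ g, g * x * g⁻¹ = y) {x y : G} (hx : x ∈ T) (hy : y ∈ T) (hx2 : x * x = 1) (hx1 : x ≠ 1)
    (hy2 : y * y = 1) (hy1 : y ≠ 1) : ∃ g ∈ T, g * x * g⁻¹ = y := by
  obtain ⟨g, hg⟩ := hf (e ⟨x, hx⟩) (e ⟨y, hy⟩)
    (by rw [← map_mul, ← map_one e]; exact congrArg e (Subtype.ext hx2))
    (fun h => hx1 (congrArg Subtype.val (e.map_eq_one_iff.1 h)))
    (by rw [← map_mul, ← map_one e]; exact congrArg e (Subtype.ext hy2))
    (fun h => hy1 (congrArg Subtype.val (e.map_eq_one_iff.1 h)))
  refine ⟨e.symm g, (e.symm g).2, congrArg Subtype.val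
    (e.injective (?_ : e (e.symm g * ⟨x, hx⟩ * (e.symm g)⁻¹) = e ⟨y, hy⟩))⟩
  rw [map_mul, map_mul, map_inv, e.apply_symm_apply, hg]

theorem card_alt_four : Nat.card (alternatingGroup (Fin 4)) = 12 := by
  rw [nat_card_alternatingGroup, Nat.card_fin]; rfl

theorem card_alt_five : Nat.card (alternatingGroup (Fin 5)) = 60 := by
  rw [nat_card_alternatingGroup, Nat.card_fin]; rfl

theorem small_four [Finite G] (h : Cent J T) (h2 : ∀ N : Subgroup G, N.Normal → N.index ≠ 2)
    (e : T ≃* alternatingGroup (Fin 4)) : Small J T where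
  toCent := h
  h2 := h2
  sq _ hx := sq_of_iso e sq_four hx
  conj _ hx _ hy := conj_of_iso e conj_four hx hy
  card := ⟨3, by decide, by rw [Nat.card_congr e.toEquiv, card_alt_four]⟩
  odd N hN x hxN hxT hx1 := by
    obtain ⟨g, hg2, hg1⟩ := odd_four (e ⟨x, hxT⟩)
      (fun hh => hx1 (congrArg Subtype.val (e.map_eq_one_iff.1 hh)))
    have hy : ((⟨x, hxT⟩ * (e.symm g * (⟨x, hxT⟩ : T)⁻¹ * (e.symm g)⁻¹) : T) : G) ∈ N :=
      mul_mem hxN (hN _ (e.symm g).2 _ (inv_mem hxN))
    have hey : e (⟨x, hxT⟩ * (e.symm g * (⟨x, hxT⟩ : T)⁻¹ * (e.symm g)⁻¹)) =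
        e ⟨x, hxT⟩ * (g * (e ⟨x, hxT⟩)⁻¹ * g⁻¹) := by simp
    refine ⟨_, hy, ?_, fun hh => hg1 ?_⟩
    · exact congrArg Subtype.val (e.injective (a₂ := 1) (by rw [map_mul, hey, hg2, map_one]))
    · rw [← hey, ← map_one e]; exact congrArg e (Subtype.ext hh)

theorem small_five [Finite G] (h : Cent J T) (h2 : ∀ N : Subgroup G, N.Normal → N.index ≠ 2)
    (e : T ≃* alternatingGroup (Fin 5)) : Small J T where
  toCent := h
  h2 := h2
  sq _ hx := sq_of_iso e sq_five hx
  conj _ hx _ hy := conj_of_iso e conj_five hx hy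
  card := ⟨15, by decide, by rw [Nat.card_congr e.toEquiv, card_alt_five]⟩
  odd N hN x hxN hxT hx1 := by
    set a : T := ⟨x, hxT⟩ with ha
    obtain ⟨g, hg⟩ := odd_five (e a)
      (fun hh => hx1 (congrArg Subtype.val (e.map_eq_one_iff.1 hh)))
    have key : ∀ y : T, (y : G) ∈ N → e y * e y = 1 → e y ≠ 1 →
        ∃ y ∈ N, y * y = 1 ∧ y ≠ 1 := fun y hy hy2 hy1 =>
      ⟨y, hy, congrArg Subtype.val (e.injective (a₂ := 1) (by rw [map_mul, hy2, map_one])),
        fun hh => hy1 (e.map_eq_one_iff.2 (Subtype.ext hh))⟩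
    rcases hg with ⟨hg2, hg1⟩ | ⟨hg2, hg1⟩ | hg2
    · refine key (a * (e.symm g * a⁻¹ * (e.symm g)⁻¹)) (mul_mem hxN (hN _ (e.symm g).2 _ (inv_mem hxN))) ?_ ?_
      · simpa using hg2
      · simpa using hg1
    · refine key (a * a * (e.symm g * a * (e.symm g)⁻¹))
        (mul_mem (mul_mem hxN hxN) (hN _ (e.symm g).2 _ hxN)) ?_ ?_
      · simpa using hg2
      · simpa using hg1
    · exact key a hxN hg2 fun hh => hx1 (congrArg Subtype.val (e.map_eq_one_iff.1 hh))

variable [Finite G]

/-- `2 × Alt(5)`: the group is simple. -/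
theorem five_simple (h : Small J T) (e : T ≃* alternatingGroup (Fin 5)) : IsSimpleGroup G := by
  obtain ⟨P, hJ, hPC⟩ := h.exists_sylow
  haveI : Nontrivial T := e.toEquiv.nontrivial
  haveI : IsSimpleGroup T := IsSimpleGroup.isSimpleGroup_of_surjective e.symm.toMonoidHom e.symm.surjective
  have h4 := h.card_inter hJ hPC
  have hT : Nat.card T = 60 := by rw [Nat.card_congr e.toEquiv, card_alt_five]
  -- `T` lies in every normal subgroup containing the four-group
  have hTle : ∀ N : Subgroup G, N.Normal → T ⊓ (P : Subgroup G) ≤ N → T ≤ N := by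
    intro N hN hle
    rcases Subgroup.Normal.eq_bot_or_eq_top (inferInstance : (N.subgroupOf T).Normal) with hb | hb
    · exfalso
      have : T ⊓ (P : Subgroup G) ≤ ⊥ := fun x hx => by
        have hm : (⟨x, hx.1⟩ : T) ∈ N.subgroupOf T := Subgroup.mem_subgroupOf.2 (hle hx)
        rw [hb, Subgroup.mem_bot] at hm
        exact Subgroup.mem_bot.2 (congrArg Subtype.val hm)
      rw [le_bot_iff] at this
      rw [this, Subgroup.card_bot] at h4
      omega
    · exact Subgroup.subgroupOf_eq_top.1 hb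
  have hPn : ¬ (P : Subgroup G).Normal := by
    intro hn
    have hle := Subgroup.card_dvd_of_le (hTle _ hn inf_le_right)
    rw [hT, h.card_P hPC] at hle
    norm_num at hle
  have hM : Subgroup.normalClosure ({J} : Set G) = ⊤ := by
    have hTM := hTle _ Subgroup.normalClosure_normal
      (inf_le_right.trans (h.P_le_closure hJ hPC))
    rw [eq_top_iff, ← h.closure_sup hJ hPC hPn, sup_le_iff]
    refine ⟨le_rfl, ?_⟩
    rw [← h.hd.2.2.2.2]
    exact sup_le (Subgroup.zpowers_le.2 (J_mem_closure J)) hTM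
  haveI : Nontrivial G := ⟨⟨J, 1, h.ne_one⟩⟩
  refine ⟨fun N hN => or_iff_not_imp_left.2 fun hne => ?_⟩
  exact eq_top_iff.2 (hM ▸ h.closure_le hJ hPC hN hne)

omit [Finite G] in
/-- `C(J) ≅ Z₂ × T`. -/
theorem Cent.nonempty_mulEquiv (h : Cent J T) {A : Type*} [Group A] (e : T ≃* A) :
    Nonempty (Subgroup.centralizer ({J} : Set G) ≃* Multiplicative (ZMod 2) × A) := by
  haveI : Fact (Nat.Prime 2) := ⟨Nat.prime_two⟩
  haveI : IsCyclic (Subgroup.zpowers J) := inferInstance
  have hc : Nat.card (Subgroup.zpowers J) = 2 := by rw [Nat.card_zpowers, h.ht.1]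
  let z : Subgroup.zpowers J ≃* Multiplicative (ZMod 2) := mulEquivOfPrimeCardEq (p := 2) hc (by simp)
  have hcomm : ∀ (a : Subgroup.zpowers J) (b : T),
      Commute ((Subgroup.zpowers J).subtype a) (T.subtype b) := fun a b => h.hd.2.2.1 a a.2 b b.2
  let φ : Subgroup.zpowers J × T →* G :=
    MonoidHom.noncommCoprod (Subgroup.zpowers J).subtype T.subtype hcomm
  have hinj : Function.Injective φ := by
    refine (MonoidHom.noncommCoprod_injective _ _ hcomm).2 ⟨Subtype.val_injective, Subtype.val_injective, ?_⟩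
    rw [Subgroup.range_subtype, Subgroup.range_subtype, disjoint_iff]
    exact h.hd.2.2.2.1
  have hr : φ.range = Subgroup.centralizer ({J} : Set G) := by
    refine (MonoidHom.noncommCoprod_range _ _ hcomm).trans ?_
    rw [Subgroup.range_subtype, Subgroup.range_subtype]
    exact h.hd.2.2.2.2
  exact ⟨((MonoidHom.ofInjective hinj).trans (MulEquiv.subgroupCongr hr)).symm.trans (z.prodCongr e)⟩

section Four

variable (h : Small J T) (e : T ≃* alternatingGroup (Fin 4)) {P : Sylow 2 G}
  (hJ : J ∈ (P : Subgroup G)) (hPC : (P : Subgroup G) ≤ Subgroup.centralizer ({J} : Set G))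

include h e hJ hPC

omit hJ hPC in
theorem four_card : Nat.card (Subgroup.centralizer ({J} : Set G)) = 24 := by
  rw [h.toCent.card_C, Nat.card_congr e.toEquiv, card_alt_four]

theorem four_mem_P {x : G} (hx : x ∈ Subgroup.centralizer ({J} : Set G)) (hx2 : x * x = 1) :
    x ∈ (P : Subgroup G) := by
  classical
  have key : ∀ y ∈ T, y * y = 1 → y ∈ (P : Subgroup G) := by
    have hset : ((T ⊓ (P : Subgroup G) : Subgroup G) : Set G) = {y | y ∈ T ∧ y * y = 1} := by
      refine Set.eq_of_subset_of_ncard_le (fun y hy => ⟨hy.1, h.sq_P hJ hPC hy.2⟩) (le_of_eq ?_)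
        (Set.toFinite _)
      rw [← Nat.card_coe_set_eq, ← Nat.card_coe_set_eq, SetLike.coe_sort_coe, h.card_inter hJ hPC,
        ← invol_card_four]
      refine Nat.card_congr ⟨fun y => ⟨e ⟨y.1, y.2.1⟩, ?_⟩,
        fun a => ⟨e.symm a.1, (e.symm a.1).2, ?_⟩, fun y => ?_, fun a => ?_⟩
      · rw [← map_mul, ← map_one e]; exact congrArg e (Subtype.ext y.2.2)
      · rw [← Subgroup.coe_mul, ← map_mul, a.2, map_one, Subgroup.coe_one]
      · exact Subtype.ext (by simp)
      · exact Subtype.ext (by simp)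
    intro y hy hy2
    have : y ∈ ((T ⊓ (P : Subgroup G) : Subgroup G) : Set G) := hset ▸ ⟨hy, hy2⟩
    exact this.2
  rcases h.decomp hx with h1 | h1
  · exact key x h1 hx2
  · have := mul_mem hJ (key _ h1 (by
      rw [show J * x * (J * x) = (J * J) * (x * x) by
        rw [mul_assoc J x, ← mul_assoc x J, Cent.mem_C.1 hx]; group, h.mul_self, hx2, one_mul]))
    rwa [← mul_assoc, h.mul_self, one_mul] at this

theorem four_C_le_normalizer :
    Subgroup.centralizer ({J} : Set G) ≤ Subgroup.normalizer ((P : Subgroup G) : Set G) := by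
  have key : ∀ g ∈ Subgroup.centralizer ({J} : Set G), ∀ x ∈ (P : Subgroup G),
      g * x * g⁻¹ ∈ (P : Subgroup G) := fun g hg x hx =>
    four_mem_P h e hJ hPC (mul_mem (mul_mem hg (hPC hx)) (inv_mem hg))
      (conj_mul_self (h.sq_P hJ hPC hx))
  intro g hg
  rw [Subgroup.mem_normalizer_iff]
  refine fun x => ⟨key g hg x, fun hx => ?_⟩
  have := key g⁻¹ (inv_mem hg) _ hx
  simpa [mul_assoc] using this

omit hJ hPC in
theorem four_solvable : Group.IsSolvable (Subgroup.centralizer ({J} : Set G)) :=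
  CfsgLib.InvCharRankFour.isSolvable_of_dvd_two_three (i := 3) (j := 1)
    (by rw [four_card h e]; norm_num)

theorem four_not_normal (hns : ¬ Group.IsSolvable G) : ¬ (P : Subgroup G).Normal := by
  intro hn
  haveI := hn
  have hK : Nat.card {x : G // IsConj J x} = 7 := by
    rw [show Nat.card {x : G // IsConj J x} = (((P : Subgroup G) : Set G) \ {1}).ncard from ?_,
      Set.ncard_sdiff_singleton_of_mem (one_mem _), ← Nat.card_coe_set_eq, SetLike.coe_sort_coe,
      h.card_P hPC]
    rw [← Nat.card_coe_set_eq]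
    refine Nat.card_congr (Equiv.subtypeEquivRight fun x => ⟨fun hx => ?_, fun hx => ?_⟩)
    · obtain ⟨g, rfl⟩ := isConj_iff.1 hx
      exact ⟨hn.conj_mem J hJ g, conj_ne_one h.ne_one⟩
    · exact h.isConj_P hJ hPC hx.1 hx.2
  have hG := CfsgLib.Characters.card_isConj_mul_card_centralizer J
  rw [hK, four_card h e, ← Subgroup.card_mul_index (P : Subgroup G), h.card_P hPC] at hG
  have h21 : Nat.card (G ⧸ (P : Subgroup G)) = 3 ^ 1 * 7 ^ 1 := by
    rw [← Subgroup.index_eq_card]; omega
  haveI := CfsgLib.Burnside.isSolvable_of_card_eq Nat.prime_three (by norm_num : Nat.Prime 7) 1 1 h21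
  haveI : Group.IsSolvable (P : Subgroup G) :=
    Group.isSolvable_of_comm fun a b => Subtype.ext (h.comm_P hJ hPC a.2 b.2)
  exact hns (Group.isSolvable_of_ker_le_range (P : Subgroup G).subtype
    (QuotientGroup.mk' (P : Subgroup G)) (by simp))

theorem four_closure_inf (hPn : ¬ (P : Subgroup G).Normal) :
    Subgroup.normalClosure ({J} : Set G) ⊓ Subgroup.centralizer ({J} : Set G) = (P : Subgroup G) := by
  set M := Subgroup.normalClosure ({J} : Set G) with hM
  have hPMC : (P : Subgroup G) ≤ M ⊓ Subgroup.centralizer ({J} : Set G) :=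
    le_inf (h.P_le_closure hJ hPC) hPC
  by_contra hne
  have h8 := Subgroup.card_dvd_of_le hPMC
  have h24 := Subgroup.card_dvd_of_le (inf_le_right : M ⊓ Subgroup.centralizer ({J} : Set G) ≤ _)
  rw [h.card_P hPC] at h8
  rw [four_card h e] at h24
  have hcard : Nat.card ↥(M ⊓ Subgroup.centralizer ({J} : Set G)) = 24 := by
    obtain ⟨q, hq⟩ := h8
    rw [hq] at h24 ⊢
    have hq3 : q ∣ 3 := Nat.dvd_of_mul_dvd_mul_left (by norm_num : 0 < 8) h24
    rcases (Nat.dvd_prime Nat.prime_three).1 hq3 with rfl | rfl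
    · exact absurd (Subgroup.eq_of_le_of_card_ge hPMC (by rw [hq, h.card_P hPC])).symm hne
    · rfl
  have hCM : Subgroup.centralizer ({J} : Set G) ≤ M :=
    inf_eq_right.1 (Subgroup.eq_of_le_of_card_ge inf_le_right (by rw [hcard, four_card h e]))
  have htop : M = ⊤ := by
    rw [eq_top_iff, ← h.closure_sup hJ hPC hPn]
    exact sup_le le_rfl hCM
  haveI : Fintype G := Fintype.ofFinite G
  haveI : IsSimpleGroup G := by
    haveI : Nontrivial G := ⟨⟨J, 1, h.ne_one⟩⟩
    refine ⟨fun N hN => or_iff_not_imp_left.2 fun hne => ?_⟩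
    exact eq_top_iff.2 (htop ▸ h.closure_le hJ hPC hN hne)
  haveI := four_solvable h e
  have h12 : Nat.card T = 12 := by rw [Nat.card_congr e.toEquiv, card_alt_four]
  obtain ⟨g, hgT, hg2⟩ : ∃ g ∈ T, g * g ≠ 1 := by
    by_contra hh
    push Not at hh
    have hle : T ≤ T ⊓ (P : Subgroup G) := fun x hx =>
      ⟨hx, four_mem_P h e hJ hPC (h.le hx) (hh x hx)⟩
    have := Subgroup.card_le_of_le hle
    rw [h.card_inter hJ hPC, h12] at this
    omega
  refine CfsgLib.InvChar.EightColumns.no_order_three P (h.card_P hPC) (fun s hs => h.sq_P hJ hPC hs)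
    hJ h.ht.1 (fun s hs hs1 => h.isConj_P hJ hPC hs hs1) (h.le hgT)
    (four_C_le_normalizer h e hJ hPC (h.le hgT)) fun hgc => ?_
  obtain ⟨⟨q, hq⟩, hq1⟩ : ∃ q : ↥(T ⊓ (P : Subgroup G)), q ≠ 1 := by
    haveI : Nontrivial ↥(T ⊓ (P : Subgroup G)) :=
      Finite.one_lt_card_iff_nontrivial.1 (by rw [h.card_inter hJ hPC]; norm_num)
    exact exists_ne 1
  refine not_commute_four (e ⟨g, hgT⟩) (e ⟨q, hq.1⟩)
    (fun hh => hg2 (congrArg Subtype.val (e.injective (a₁ := (⟨g, hgT⟩ : T) * ⟨g, hgT⟩) (a₂ := 1)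
      (by rw [map_mul, hh, map_one]))))
    (by rw [← map_mul, ← map_one e]; exact congrArg e (Subtype.ext (h.sq_P hJ hPC hq.2)))
    (fun hh => hq1 (Subtype.ext (congrArg (Subtype.val : T → G) (e.map_eq_one_iff.1 hh) :))) ?_
  rw [← map_mul, ← map_mul]
  exact congrArg e (Subtype.ext (Subgroup.mem_centralizer_iff.1 hgc q hq.2).symm)

/-- `2 × Alt(4)`: the group is `PΓL(2, 8)`. -/
theorem four_iso (hns : ¬ Group.IsSolvable G) :
    ∃ (F : Type) (_ : Field F) (_ : Fintype F), Fintype.card F = 8 ∧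
      Nonempty (G ≃* MulAut (Matrix.ProjectiveSpecialLinearGroup (Fin 2) F)) := by
  classical
  haveI : Fact (Nat.Prime 2) := ⟨Nat.prime_two⟩
  have hPn := four_not_normal h e hJ hPC hns
  have hMC := four_closure_inf h e hJ hPC hPn
  have hPM := h.P_le_closure hJ hPC
  set M := Subgroup.normalClosure ({J} : Set G) with hM
  haveI hMn : M.Normal := Subgroup.normalClosure_normal
  haveI hMs : IsSimpleGroup M := h.isSimpleGroup hJ hPC hPn
  set S : Sylow 2 M := P.subtype hPM with hS
  have hScard : Nat.card (S : Subgroup M) = 8 := by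
    rw [hS, Sylow.coe_subtype, Nat.card_congr (Subgroup.subgroupOfEquivOfLe hPM).toEquiv, h.card_P hPC]
  have hyp : CfsgLib.StrongEmbedding.ElementaryCentralizers.Hyp S := by
    refine ⟨fun hc => ?_, fun hn => ?_, fun t ht => ?_⟩
    · obtain ⟨g, hg⟩ := IsCyclic.exists_ofOrder_eq_natCard (α := (S : Subgroup M))
      have hg2 : g ^ 2 = 1 := by
        refine Subtype.ext (Subtype.ext ?_)
        rw [pow_two]
        exact h.sq_P hJ hPC (Subgroup.mem_subgroupOf.1 (Sylow.coe_subtype P hPM ▸ g.2))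
      have := orderOf_dvd_of_pow_eq_one hg2
      rw [hg, hScard] at this
      omega
    · rcases hn.eq_bot_or_eq_top with hb | hb
      · rw [hb, Subgroup.card_bot] at hScard; omega
      · refine hPn ?_
        rw [show (P : Subgroup G) = M from le_antisymm hPM fun x hx =>
          Subgroup.mem_subgroupOf.1 (Sylow.coe_subtype P hPM ▸
            (hb ▸ Subgroup.mem_top (⟨x, hx⟩ : M)))]
        exact hMn
    · rw [← Subgroup.orderOf_coe] at ht
      obtain ⟨m, hm, hmt⟩ := h.exists_conj_eq hJ hPC hPn (u := (t : G))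
        (by rw [← pow_two, ← ht, pow_orderOf_eq_one])
        (fun hh => by rw [hh, orderOf_one] at ht; omega)
      have hin : ∀ c ∈ Subgroup.centralizer ({t} : Set M), m⁻¹ * (c : G) * m ∈ (P : Subgroup G) := by
        intro c hc
        rw [← hMC]
        refine Subgroup.mem_inf.2 ⟨mul_mem (mul_mem (inv_mem hm) c.2) hm, Cent.mem_C.2 ?_⟩
        have hc' : (c : G) * (t : G) = (t : G) * (c : G) :=
          congrArg Subtype.val (Subgroup.mem_centralizer_singleton_iff.1 hc)
        rw [show m⁻¹ * (c : G) * m * J = m⁻¹ * ((c : G) * (m * J * m⁻¹)) * m by group, hmt, hc', ← hmt]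
        group
      refine ⟨⟨⟨fun a b => ?_⟩⟩, fun c hc => ?_⟩
      · refine Subtype.ext (Subtype.ext ?_)
        have := h.comm_P hJ hPC (hin a a.2) (hin b b.2)
        rw [show m⁻¹ * ((a : M) : G) * m * (m⁻¹ * ((b : M) : G) * m) =
          m⁻¹ * (((a : M) : G) * ((b : M) : G)) * m by group,
          show m⁻¹ * ((b : M) : G) * m * (m⁻¹ * ((a : M) : G) * m) =
          m⁻¹ * (((b : M) : G) * ((a : M) : G)) * m by group] at this
        exact mul_left_cancel (mul_right_cancel this)
      · refine Subtype.ext ?_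
        rw [SubmonoidClass.coe_pow, pow_two]
        have := h.sq_P hJ hPC (hin c hc)
        rw [show m⁻¹ * (c : G) * m * (m⁻¹ * (c : G) * m) = m⁻¹ * ((c : G) * (c : G)) * m⁻¹⁻¹ by group,
          conj_eq_one_iff] at this
        exact this
  obtain ⟨F, fF, ftF, hF, ⟨φ⟩⟩ := CfsgLib.StrongEmbedding.PSLTwo.exists_psl hyp
  rw [hScard] at hF
  refine ⟨F, fF, ftF, hF, ?_⟩
  haveI : CharP F 2 := charP_of_card_eq_prime_pow (f := 3) (by rw [hF]; norm_num)
  have hSL : Nat.card (Matrix.SpecialLinearGroup (Fin 2) F) = 504 := by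
    rw [CfsgLib.StrongEmbedding.PSLTwo.card_sl_two, hF]
  have hMcard : Nat.card M = 504 := by
    rw [Nat.card_congr φ.toEquiv, ← hSL]
    exact (Nat.card_congr
      (((QuotientGroup.quotientMulEquivOfEq CfsgLib.StrongEmbedding.PSLTwo.center_sl_two_eq_bot).trans
        QuotientGroup.quotientBot).toEquiv))
  have hidx : M.index = 3 := by
    have h1 := Subgroup.card_mul_index (M.subgroupOf (Subgroup.centralizer ({J} : Set G)))
    rw [← Subgroup.inf_subgroupOf_right, Nat.card_congr (Subgroup.subgroupOfEquivOfLe inf_le_right).toEquiv,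
      hMC, h.card_P hPC, four_card h e] at h1
    rw [h.closure_index_eq hJ hPC hPn, Subgroup.relIndex, ← Subgroup.inf_subgroupOf_right]
    rw [← hM, hMC] at *
    omega
  have hGcard : Nat.card G = 1512 := by
    rw [← Subgroup.card_mul_index M, hMcard, hidx]
  have hAut : Nat.card (MulAut M) = 1512 := by
    rw [Nat.card_congr (MulAut.congr φ).toEquiv,
      Cfsg.Agent.S0813.result 2 3 (by norm_num) (by rw [hF]; norm_num) 2 le_rfl (fun _ => by norm_num),
      if_pos rfl, one_mul, CfsgLib.AutPSL.card_pgl_eq_card_sl (by norm_num), hSL]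
  have hinj : Function.Injective (MulAut.conjNormal : G →* MulAut M) := by
    rw [← MonoidHom.ker_eq_bot_iff]
    by_contra hk
    have hle := h.closure_le hJ hPC (MonoidHom.normal_ker _) hk
    have hab : ∀ a b : M, a * b = b * a := fun a b => by
      have := DFunLike.congr_fun (MonoidHom.mem_ker.1 (hle a.2)) b
      refine Subtype.ext ?_
      have h' := congrArg Subtype.val this
      rw [MulAut.conjNormal_apply, MulAut.one_apply] at h'
      exact mul_inv_eq_iff_eq_mul.1 h'
    -- a commutative simple group has prime order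
    haveI : IsMulCommutative M := ⟨⟨hab⟩⟩
    letI : CommGroup M := { (inferInstance : Group M) with mul_comm := hab }
    have := IsSimpleGroup.prime_card (α := M)
    rw [hMcard] at this
    norm_num at this
  have hbij : Function.Bijective (MulAut.conjNormal : G →* MulAut M) :=
    (Nat.bijective_iff_injective_and_card _).2 ⟨hinj, by rw [hGcard, hAut]⟩
  exact ⟨(MulEquiv.ofBijective _ hbij).trans (MulAut.congr φ)⟩

end Four

/-- The conclusion: `PΓL(2, 8)`, or a simple group with abelian Sylow `2`-subgroups of order eight and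
involution centralizer `Z₂ × Alt(5)`. -/
theorem main (h : Cent J T) (h2 : ∀ N : Subgroup G, N.Normal → N.index ≠ 2)
    (hns : ¬ Group.IsSolvable G) {m : ℕ} (e : T ≃* alternatingGroup (Fin m)) :
    (m = 4 ∧ ∃ (F : Type) (_ : Field F) (_ : Fintype F), Fintype.card F = 8 ∧
      Nonempty (G ≃* MulAut (Matrix.ProjectiveSpecialLinearGroup (Fin 2) F))) ∨
    (m = 5 ∧ IsSimpleGroup G ∧ (∃ P : Sylow 2 G, IsMulCommutative (P : Subgroup G) ∧
      Nat.card P = 8) ∧ Nonempty (Subgroup.centralizer ({J} : Set G) ≃*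
        Multiplicative (ZMod 2) × alternatingGroup (Fin 5))) := by
  rcases h.degree h2 e with rfl | rfl
  · obtain ⟨P, hJ, hPC⟩ := (small_four h h2 e).exists_sylow
    exact Or.inl ⟨rfl, four_iso (small_four h h2 e) e hJ hPC hns⟩
  · obtain ⟨P, hJ, hPC⟩ := (small_five h h2 e).exists_sylow
    exact Or.inr ⟨rfl, five_simple (small_five h h2 e) e,
      ⟨P, ⟨⟨fun a b => Subtype.ext ((small_five h h2 e).comm_P hJ hPC a.2 b.2)⟩⟩,
        (small_five h h2 e).card_P hPC⟩, h.nonempty_mulEquiv e⟩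

end CfsgLib.TwoTimesAlt
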