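import Cfsg.Agent.Lib.Recognition.TwoTimesAlt.Local

/-!
The normal closure of the involution: one class of involutions in it, and it is simple.
-/

set_option autoImplicit false
set_option linter.style.haveILetI false

namespace CfsgLib.TwoTimesAlt

open Cfsg

variable {G : Type*} [Group G] {J : G} {T : Subgroup G} [Finite G] (h : Small J T) {P : Sylow 2 G}
  (hJ : J ∈ (P : Subgroup G)) (hPC : (P : Subgroup G) ≤ Subgroup.centralizer ({J} : Set G))

omit [Finite G] in
theorem J_mem_closure (J : G) : J ∈ Subgroup.normalClosure ({J} : Set G) :=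
  Subgroup.subset_normalClosure rfl

omit [Finite G] in
theorem mem_closure_of_isConj {J u : G} (hu : IsConj J u) :
    u ∈ Subgroup.normalClosure ({J} : Set G) := by
  obtain ⟨g, rfl⟩ := isConj_iff.1 hu
  exact Subgroup.normalClosure_normal.conj_mem _ (J_mem_closure J) g

include h hJ hPC

theorem Small.P_le_closure : (P : Subgroup G) ≤ Subgroup.normalClosure ({J} : Set G) := by
  intro x hx
  by_cases hx1 : x = 1
  · rw [hx1]; exact one_mem _
  · exact mem_closure_of_isConj (h.isConj_P hJ hPC hx hx1)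

/-- The normal closure of `J` is the unique minimal normal subgroup. -/
theorem Small.closure_le {N : Subgroup G} (hN : N.Normal) (hne : N ≠ ⊥) :
    Subgroup.normalClosure ({J} : Set G) ≤ N := by
  haveI : Fact (Nat.Prime 2) := ⟨Nat.prime_two⟩
  have h2 : 2 ∣ Nat.card N := by
    by_contra hh
    exact hne (h.eq_bot_of_odd hJ hPC hN hh)
  obtain ⟨⟨u, hu⟩, hou⟩ := exists_prime_orderOf_dvd_card' 2 h2
  rw [Subgroup.orderOf_mk] at hou
  have hu2 : u * u = 1 := by rw [← pow_two, ← hou, pow_orderOf_eq_one]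
  have hu1 : u ≠ 1 := fun e => by rw [e, orderOf_one] at hou; omega
  obtain ⟨g, hg⟩ := isConj_iff.1 (h.isConj_of_involution hJ hPC hu2 hu1).symm
  exact Subgroup.normalClosure_le_normal (Set.singleton_subset_iff.2 (hg ▸ hN.conj_mem u hu g))

variable (hPn : ¬ (P : Subgroup G).Normal)
include hPn

/-- The normal closure of `J` has no subgroup of index two. -/
theorem Small.closure_index {N : Subgroup (Subgroup.normalClosure ({J} : Set G))} (hN : N.Normal) :
    N.index ≠ 2 := by
  haveI : Fact (Nat.Prime 2) := ⟨Nat.prime_two⟩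
  intro hi
  haveI := hN
  haveI : (Cfsg.pResidual 2 (Subgroup.normalClosure ({J} : Set G))).Characteristic := CfsgLib.Transfer.pResidual_characteristic
  have hq : IsPGroup 2 ((Subgroup.normalClosure ({J} : Set G)) ⧸ N) := IsPGroup.of_card (n := 1) (by
    rw [← Subgroup.index_eq_card, hi, pow_one])
  have hle := CfsgLib.Transfer.pResidual_le_of_isPGroup_quotient N hq
  have hR : ((Cfsg.pResidual 2 (Subgroup.normalClosure ({J} : Set G))).map (Subgroup.normalClosure ({J} : Set G)).subtype).Normal := inferInstance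
  by_cases hb : (Cfsg.pResidual 2 (Subgroup.normalClosure ({J} : Set G))).map (Subgroup.normalClosure ({J} : Set G)).subtype = ⊥
  · rw [Subgroup.map_eq_bot_iff_of_injective _ (Subgroup.normalClosure ({J} : Set G)).subtype_injective] at hb
    have hp : IsPGroup 2 ((Subgroup.normalClosure ({J} : Set G)) ⧸ (⊥ : Subgroup (Subgroup.normalClosure ({J} : Set G)))) :=
      CfsgLib.Transfer.isPGroup_quotient_of_pResidual_le ⊥ hb.le
    have hp' : IsPGroup 2 (Subgroup.normalClosure ({J} : Set G)) := hp.of_equiv QuotientGroup.quotientBot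
    refine hPn ?_
    rw [show (P : Subgroup G) = (Subgroup.normalClosure ({J} : Set G)) from (P.3 hp' (h.P_le_closure hJ hPC)).symm]
    exact Subgroup.normalClosure_normal
  · have h1 := h.closure_le hJ hPC hR hb
    have h3 : N = ⊤ := by
      rw [eq_top_iff]
      intro x _
      obtain ⟨y, hy, hyx⟩ := h1 x.2
      rw [← Subtype.ext hyx]
      exact hle hy
    rw [h3, Subgroup.index_top] at hi
    omega

/-- Thompson transfer in the normal closure: `J` is conjugate in it to an element of `T`. -/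
theorem Small.exists_closure_conj :
    ∃ g ∈ Subgroup.normalClosure ({J} : Set G), g * J * g⁻¹ ∈ (P : Subgroup G) ∧ g * J * g⁻¹ ∈ T := by
  set M := Subgroup.normalClosure ({J} : Set G) with hM
  by_contra hcon
  push Not at hcon
  have hPM := h.P_le_closure hJ hPC
  have hQ : ((T ⊓ (P : Subgroup G)).subgroupOf M).relIndex (P.subtype hPM : Subgroup M) = 2 := by
    rw [Sylow.coe_subtype]
    show ((T ⊓ (P : Subgroup G)).comap M.subtype).relIndex ((P : Subgroup G).subgroupOf M) = 2
    rw [Subgroup.relIndex_comap, Subgroup.map_subgroupOf_eq_of_le hPM, Subgroup.relIndex]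
    have h1 := Subgroup.card_mul_index ((T ⊓ (P : Subgroup G)).subgroupOf (P : Subgroup G))
    rw [Nat.card_congr (Subgroup.subgroupOfEquivOfLe inf_le_right).toEquiv, h.card_inter hJ hPC,
      h.card_P hPC] at h1
    omega
  obtain ⟨N, hN, hNi, -⟩ := CfsgLib.Transfer.thompson_transfer (P.subtype hPM)
    ((T ⊓ (P : Subgroup G)).subgroupOf M) hQ ⟨J, J_mem_closure J⟩
    (Subtype.ext (by rw [SubmonoidClass.coe_pow, pow_two]; exact h.mul_self))
    (fun g hgP hgT => hcon g g.2 (by
      rw [Sylow.coe_subtype, Subgroup.mem_subgroupOf] at hgP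
      exact hgP) hgT.1)
  exact h.closure_index hJ hPC hPn hN hNi

/-- All involutions are conjugate in the normal closure of `J`. -/
theorem Small.exists_conj_eq {u : G} (hu : u * u = 1) (hu1 : u ≠ 1) :
    ∃ g ∈ Subgroup.normalClosure ({J} : Set G), g * J * g⁻¹ = u := by
  classical
  haveI : Fact (Nat.Prime 2) := ⟨Nat.prime_two⟩
  set M := Subgroup.normalClosure ({J} : Set G) with hM
  haveI : Fintype G := Fintype.ofFinite G
  have hPM := h.P_le_closure hJ hPC
  haveI hMn : M.Normal := Subgroup.normalClosure_normal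
  haveI hPcomm : IsMulCommutative (P : Subgroup G) :=
    ⟨⟨fun a b => Subtype.ext (h.comm_P hJ hPC a.2 b.2)⟩⟩
  let X : Finset G := Finset.univ.filter fun x => x ∈ (P : Subgroup G) ∧ x ≠ 1
  let A : G → Finset G := fun s => X.filter fun x => ∃ g ∈ M, g * x * g⁻¹ = s
  have memX : ∀ x, x ∈ X ↔ x ∈ (P : Subgroup G) ∧ x ≠ 1 := fun x => by simp [X]
  have memA : ∀ s x, x ∈ A s ↔ x ∈ X ∧ ∃ g ∈ M, g * x * g⁻¹ = s := fun s x => by simp [A]
  have hX : X.card = 7 := by
    have e : (↑X : Set G) = ((P : Subgroup G) : Set G) \ {1} := by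
      ext x
      simp only [Finset.mem_coe, memX, Set.mem_sdiff, SetLike.mem_coe, Set.mem_singleton_iff]
    rw [← Set.ncard_coe_finset, e, Set.ncard_sdiff_singleton_of_mem (one_mem _),
      ← Nat.card_coe_set_eq, SetLike.coe_sort_coe, h.card_P hPC]
  have hJX : J ∈ X := (memX J).2 ⟨hJ, h.ne_one⟩
  -- classes have the same size
  have hsame : ∀ s ∈ X, (A s).card = (A J).card := by
    intro s hs
    obtain ⟨hsP, hs1⟩ := (memX s).1 hs
    obtain ⟨g₀, hg₀⟩ := isConj_iff.1 (h.isConj_P hJ hPC hsP hs1)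
    obtain ⟨n, hn, hn'⟩ := P.conj_eq_normalizer_conj_of_mem J g₀⁻¹ hJ
      (show g₀⁻¹⁻¹ * J * g₀⁻¹ ∈ (P : Subgroup G) by rw [inv_inv, hg₀]; exact hsP)
    rw [inv_inv, hg₀] at hn'
    symm
    refine Finset.card_bij (fun x _ => n⁻¹ * x * n) (fun x hx => ?_) (fun a _ b _ hab => ?_)
      (fun y hy => ?_)
    · obtain ⟨hxX, g, hg, hgx⟩ := (memA J x).1 hx
      obtain ⟨hxP, hx1⟩ := (memX x).1 hxX
      refine (memA s _).2 ⟨(memX _).2 ⟨?_, fun e => hx1 (conj_eq_one_iff.1 (show n⁻¹ * x * n⁻¹⁻¹ = 1 by rwa [inv_inv]))⟩,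
        n⁻¹ * g * n, by simpa using hMn.conj_mem g hg n⁻¹, ?_⟩
      · simpa using (Subgroup.mem_normalizer_iff.1 (inv_mem hn) x).1 hxP
      · rw [hn', ← hgx]; group
    · exact mul_left_cancel (mul_right_cancel hab)
    · obtain ⟨hyX, g, hg, hgy⟩ := (memA s y).1 hy
      obtain ⟨hyP, hy1⟩ := (memX y).1 hyX
      refine ⟨n * y * n⁻¹, (memA J _).2 ⟨(memX _).2
        ⟨(Subgroup.mem_normalizer_iff.1 hn y).1 hyP, conj_ne_one hy1⟩,
        n * g * n⁻¹, hMn.conj_mem g hg n, ?_⟩, by group⟩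
      rw [show n * g * n⁻¹ * (n * y * n⁻¹) * (n * g * n⁻¹)⁻¹ = n * (g * y * g⁻¹) * n⁻¹ by group,
        hgy, hn']
      group
  -- the class of `J` meets `T`
  have hA2 : 2 ≤ (A J).card := by
    obtain ⟨g, hg, hgP, hgT⟩ := h.exists_closure_conj hJ hPC hPn
    refine Finset.one_lt_card.2 ⟨J, (memA J J).2 ⟨hJX, 1, M.one_mem, by group⟩, g * J * g⁻¹,
      (memA J _).2 ⟨(memX _).2 ⟨hgP, conj_ne_one h.ne_one⟩, g⁻¹, inv_mem hg, by group⟩,
      fun e => h.not_mem (e ▸ hgT)⟩
  -- so there is a single class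
  have hall : A J = X := by
    refine Finset.eq_of_subset_of_card_le (Finset.filter_subset _ _) ?_
    have hsum := Finset.card_eq_sum_card_fiberwise (s := X) (t := X.image A) (f := A)
      (fun x hx => Finset.mem_image_of_mem A hx)
    rw [Finset.sum_congr rfl (g := fun _ => (A J).card) (fun B hB => ?_), Finset.sum_const,
      smul_eq_mul, hX] at hsum
    · rw [hX]
      have hd : (A J).card ∣ 7 := ⟨_, hsum.trans (mul_comm _ _)⟩
      rcases (Nat.dvd_prime (by norm_num)).1 hd with h1 | h1 <;> omega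
    · obtain ⟨s, hs, rfl⟩ := Finset.mem_image.1 hB
      rw [show (X.filter fun x => A x = A s) = A s from ?_, hsame s hs]
      ext x
      rw [Finset.mem_filter, memA]
      constructor
      · rintro ⟨hx, e⟩
        have hxx : x ∈ A x := (memA x x).2 ⟨hx, 1, M.one_mem, by group⟩
        rw [e] at hxx
        exact ⟨hx, ((memA s x).1 hxx).2⟩
      · rintro ⟨hx, g, hg, hgx⟩
        refine ⟨hx, Finset.ext fun y => ?_⟩
        rw [memA, memA]
        refine ⟨fun ⟨hy, k, hk, hky⟩ => ⟨hy, g * k, mul_mem hg hk, ?_⟩,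
          fun ⟨hy, k, hk, hky⟩ => ⟨hy, g⁻¹ * k, mul_mem (inv_mem hg) hk, ?_⟩⟩
        · rw [← hgx, ← hky]; group
        · rw [show g⁻¹ * k * y * (g⁻¹ * k)⁻¹ = g⁻¹ * (k * y * k⁻¹) * g by group, hky, ← hgx]; group
  -- move `u` into `P` within `M`
  have huM : u ∈ M := mem_closure_of_isConj (h.isConj_of_involution hJ hPC hu hu1)
  have hp : IsPGroup 2 (Subgroup.zpowers (⟨u, huM⟩ : M)) := IsPGroup.of_card (n := 1) (by
    rw [Nat.card_zpowers, pow_one,
      orderOf_eq_prime (Subtype.ext (by rw [SubmonoidClass.coe_pow, pow_two]; exact hu))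
        (fun e => hu1 (congrArg Subtype.val e))])
  obtain ⟨Q, hQ⟩ := hp.exists_le_sylow
  obtain ⟨g, hg⟩ := MulAction.exists_smul_eq M Q (P.subtype hPM)
  have huP : (g : G) * u * (g : G)⁻¹ ∈ (P : Subgroup G) := by
    have : MulAut.conj g • (⟨u, huM⟩ : M) ∈ (P.subtype hPM : Subgroup M) := by
      rw [← hg]
      exact Subgroup.smul_mem_pointwise_smul _ (MulAut.conj g) _ (hQ (Subgroup.mem_zpowers _))
    rw [Sylow.coe_subtype, Subgroup.mem_subgroupOf] at this
    simpa using this
  obtain ⟨-, k, hk, hku⟩ := (memA J _).1 (hall.symm ▸ (memX _).2 ⟨huP, conj_ne_one hu1⟩)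
  refine ⟨(g : G)⁻¹ * k⁻¹, mul_mem (inv_mem g.2) (inv_mem hk), ?_⟩
  rw [← hku]
  group

/-- The normal closure of `J` is simple. -/
theorem Small.isSimpleGroup : IsSimpleGroup (Subgroup.normalClosure ({J} : Set G)) := by
  haveI : Fact (Nat.Prime 2) := ⟨Nat.prime_two⟩
  set M := Subgroup.normalClosure ({J} : Set G) with hM
  haveI : Nontrivial M := ⟨⟨⟨J, J_mem_closure J⟩, 1, fun e => h.ne_one (congrArg Subtype.val e)⟩⟩
  refine ⟨fun K hK => or_iff_not_imp_left.2 fun hKne => ?_⟩
  have hb : (Cfsg.pPrimeCore 2 M).map M.subtype = ⊥ := by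
    refine h.eq_bot_of_odd hJ hPC inferInstance fun hd => ?_
    rw [Subgroup.card_map_of_injective M.subtype_injective] at hd
    exact CfsgLib.PCore.not_dvd_card_pPrimeCore hd
  rw [Subgroup.map_eq_bot_iff_of_injective _ M.subtype_injective] at hb
  have h2 : 2 ∣ Nat.card K := by
    by_contra hh
    exact hKne (le_bot_iff.1 (hb ▸ CfsgLib.PCore.le_pPrimeCore_of_not_dvd hK hh))
  obtain ⟨⟨⟨u, huM⟩, huK⟩, hou⟩ := exists_prime_orderOf_dvd_card' 2 h2
  rw [Subgroup.orderOf_mk, Subgroup.orderOf_mk] at hou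
  have hu2 : u * u = 1 := by rw [← pow_two, ← hou, pow_orderOf_eq_one]
  have hu1 : u ≠ 1 := fun e => by rw [e, orderOf_one] at hou; omega
  obtain ⟨g, hg, hgu⟩ := h.exists_conj_eq hJ hPC hPn hu2 hu1
  have hall : ∀ x : G, IsConj J x → x ∈ K.map M.subtype := by
    intro x hx
    obtain ⟨hx2, hx1⟩ := h.isConj_involution hx
    obtain ⟨k, hk, hkx⟩ := h.exists_conj_eq hJ hPC hPn hx2 hx1
    refine ⟨⟨k * g⁻¹, mul_mem hk (inv_mem hg)⟩ * ⟨u, huM⟩ * ⟨k * g⁻¹, mul_mem hk (inv_mem hg)⟩⁻¹,
      hK.conj_mem _ huK _, ?_⟩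
    show k * g⁻¹ * u * (k * g⁻¹)⁻¹ = x
    rw [← hkx, ← hgu]
    group
  have hle : M ≤ K.map M.subtype := by
    refine (Subgroup.closure_le _).2 fun x hx => ?_
    obtain ⟨a, ha, hax⟩ := Group.mem_conjugatesOfSet_iff.1 hx
    rw [Set.mem_singleton_iff] at ha
    exact hall x (ha ▸ hax)
  rw [eq_top_iff]
  intro x _
  obtain ⟨y, hy, hyx⟩ := hle x.2
  rwa [← Subtype.ext hyx]

/-- `G` is the product of the normal closure with the centralizer of `J`. -/
theorem Small.closure_sup :
    Subgroup.normalClosure ({J} : Set G) ⊔ Subgroup.centralizer ({J} : Set G) = ⊤ := by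
  rw [eq_top_iff]
  intro g _
  obtain ⟨m, hm, hmg⟩ := h.exists_conj_eq hJ hPC hPn (conj_mul_self (g := g) h.mul_self)
    (conj_ne_one (g := g) h.ne_one)
  rw [show g = m * (m⁻¹ * g) by group]
  refine mul_mem (Subgroup.mem_sup_left hm) (Subgroup.mem_sup_right (Cent.mem_C.2 ?_))
  rw [show m⁻¹ * g * J = m⁻¹ * (g * J * g⁻¹) * g by group, ← hmg]
  group

/-- The index of the normal closure. -/
theorem Small.closure_index_eq :
    (Subgroup.normalClosure ({J} : Set G)).index =
      (Subgroup.normalClosure ({J} : Set G)).relIndex (Subgroup.centralizer ({J} : Set G)) := by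
  haveI : (Subgroup.normalClosure ({J} : Set G)).Normal := Subgroup.normalClosure_normal
  rw [← Subgroup.relIndex_top_right, ← h.closure_sup hJ hPC hPn, Subgroup.relIndex_sup_left]

end CfsgLib.TwoTimesAlt
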